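import Cfsg.Agent.Spor.J4P.VB.D0

set_option autoImplicit false
set_option maxRecDepth 100000000
set_option Elab.async false

namespace Cfsg.Agent.Spor.J4P.VB

theorem uok2 : Net.okb 5 un2 = true := by decide +kernel

theorem rel3 : U.rel 5 [5, 4, 2, 4, 2, 4, 2, 3, 2, 3, 2, 4, 2, 4, 2, 4, 2, 3, 2, 4, 2, 3, 2, 3, 2, 4, 2, 3, 2, 4, 2, 4, 2, 3, 2, 3, 2, 3, 2, 3, 1, 3, 1, 3, 1, 4, 1, 4, 1, 4, 1, 3, 1, 4, 1] 0 5 = true := by decide +kernel

theorem uok3 : Net.okb 5 un3 = true := by decide +kernel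

theorem rel4 : U.rel 5 [7, 2, 4, 2, 4, 2, 3, 2, 4, 2, 4, 2, 4, 2, 4, 2, 4, 2, 3, 2, 4, 2, 3, 2, 4, 2, 4, 2, 4, 2, 4, 2, 4, 2, 4, 2, 3, 2, 3, 2, 3, 1, 3, 1, 3, 1, 4, 1, 4, 1, 4, 1, 3, 1, 4, 1, 3, 1, 3, 1, 4] 0 5 = true := by decide +kernel

theorem uok4 : Net.okb 5 un4 = true := by decide +kernel

theorem rel5 : U.rel 5 [9, 2, 3, 2, 4, 2, 3, 2, 3, 2, 3, 2, 4, 2, 4, 2, 4, 2, 4, 2, 4, 2, 4, 2, 3, 2, 3, 2, 4, 2, 3, 2, 4, 2, 4, 2, 3, 2, 4, 2, 3, 1, 3, 1, 3, 1, 4, 1, 4, 1, 3, 1, 3, 1, 3] 0 5 = true := by decide +kernel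

theorem uok5 : Net.okb 5 un5 = true := by decide +kernel

theorem rel6 : U.rel 5 [11, 3, 2, 4, 2, 4, 2, 3, 2, 4, 2, 3, 2, 3, 2, 3, 2, 4, 2, 4, 2, 4, 2, 4, 2, 4, 2, 3, 2, 3, 2, 3, 2, 3, 2, 3, 2, 3, 2, 4, 1, 3, 1, 4, 1, 3, 1, 3, 1, 3, 1, 3, 1, 3, 1, 4, 1, 3, 1, 3, 1] 0 5 = true := by decide +kernel

theorem uok6 : Net.okb 5 un6 = true := by decide +kernel

theorem rel7 : U.rel 5 [13, 3, 2, 4, 2, 4, 2, 3, 2, 3, 2, 3, 2, 4, 2, 4, 2, 4, 2, 4, 2, 3, 2, 3, 2, 3, 2, 4, 2, 4, 2, 3, 2, 4, 2, 4, 2, 3, 2, 3, 1, 4, 1, 3, 1, 4, 1, 4, 1, 3, 1, 3, 1, 3, 1] 0 5 = true := by decide +kernel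

theorem uok7 : Net.okb 5 un7 = true := by decide +kernel

theorem rel8 : U.rel 5 [15, 2, 4, 2, 4, 2, 4, 2, 4, 2, 4, 2, 3, 2, 3, 2, 4, 2, 4, 2, 3, 2, 3, 2, 3, 2, 3, 2, 4, 2, 4, 2, 4, 2, 3, 2, 4, 2, 3, 2, 3, 1, 3, 1, 3, 1, 4, 1, 3, 1, 3, 1, 3] 0 5 = true := by decide +kernel

theorem uok8 : Net.okb 5 un8 = true := by decide +kernel

theorem rel10 : U.rel 5 [17, 5, 7, 5, 7, 7, 5, 7, 7, 5, 7, 7, 5, 5, 7, 5] 0 5 = true := by decide +kernel

theorem uok9 : Net.okb 5 un9 = true := by decide +kernel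

theorem rel11 : U.rel 5 [19, 5, 5, 7, 7, 7, 7, 5, 5, 5, 7, 7, 7, 7, 5, 7, 7, 7, 7, 5, 7, 7, 7, 5, 7, 5, 7] 0 5 = true := by decide +kernel

theorem gr12 : sub 0xffffff (U.growI W9 [0, 1, 1, 0, 0, 1, 1, 0] (Nat.shiftLeft 1 0)) = true := by decide +kernel

theorem cl14 : band (U.closedW W9 0xffffff) (sub (Nat.shiftLeft 1 0) 0xffffff) = true := by decide +kernel

theorem sz15 : sizeOk 5 0xffffff 24 = true := by decide +kernel

theorem fx18 : U.closedW W17 (Nat.shiftLeft 1 0) = true := by decide +kernel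

theorem uok10 : Net.okb 5 un10 = true := by decide +kernel

theorem rel19 : U.rel 5 [21, 19, 19, 17, 19, 17, 19, 17, 17, 17, 17, 17, 17, 19, 19] 0 5 = true := by decide +kernel

theorem uok11 : Net.okb 5 un11 = true := by decide +kernel

theorem rel20 : U.rel 5 [23, 19, 19, 17, 17, 17, 17, 19, 17, 19, 19, 19, 19, 17, 19, 19, 17, 17, 17, 19, 19, 19, 17, 19, 19, 19, 19, 17, 19] 0 5 = true := by decide +kernel

theorem uok12 : Net.okb 5 un12 = true := by decide +kernel

theorem rel21 : U.rel 5 [25, 19, 17, 17, 19, 17, 17, 19, 17, 19, 17, 17, 17, 17, 19, 19, 19, 17, 17, 19, 19, 17, 17, 17, 17, 19, 17, 17, 17, 17, 17, 19, 17, 19, 17, 19, 17, 19, 17, 19, 17, 19, 19, 17] 0 5 = true := by decide +kernel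

theorem gr22 : sub 0xfffddc (U.growI W17 [0, 1, 1, 0, 0, 1, 1, 0] (Nat.shiftLeft 1 2)) = true := by decide +kernel

theorem cl24 : band (U.closedW W17 0xfffddc) (sub (Nat.shiftLeft 1 2) 0xfffddc) = true := by decide +kernel

theorem sz25 : sizeOk 5 0xfffddc 20 = true := by decide +kernel

theorem fx28 : U.closedW W27 (Nat.shiftLeft 1 2) = true := by decide +kernel

theorem gr29 : sub 0x222 (U.growI W27 [2, 1] (Nat.shiftLeft 1 9)) = true := by decide +kernel

theorem cl31 : band (U.closedW W27 0x222) (sub (Nat.shiftLeft 1 9) 0x222) = true := by decide +kernel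

theorem sz32 : sizeOk 5 0x222 3 = true := by decide +kernel

theorem fx35 : U.closedW W34 (Nat.shiftLeft 1 9) = true := by decide +kernel

theorem uok13 : Net.okb 5 un13 = true := by decide +kernel

theorem rel36 : U.rel 5 [27, 21, 21, 23, 23, 21, 23, 23, 21] 0 5 = true := by decide +kernel

theorem uok14 : Net.okb 5 un14 = true := by decide +kernel

theorem rel37 : U.rel 5 [29, 21, 23, 23, 21, 23, 23, 21, 23, 21, 23, 23, 21, 21, 21, 23, 21, 21, 23, 21] 0 5 = true := by decide +kernel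

theorem gr38 : sub 0xf3fdc8 (U.growI W34 [0, 1, 0, 0, 1, 1, 0] (Nat.shiftLeft 1 3)) = true := by decide +kernel

theorem cl40 : band (U.closedW W34 0xf3fdc8) (sub (Nat.shiftLeft 1 3) 0xf3fdc8) = true := by decide +kernel

theorem sz41 : sizeOk 5 0xf3fdc8 16 = true := by decide +kernel

theorem fx44 : U.closedW W43 (Nat.shiftLeft 1 3) = true := by decide +kernel

theorem gr45 : sub 0x412c40 (U.growI W43 [0, 1, 0] (Nat.shiftLeft 1 6)) = true := by decide +kernel

theorem cl47 : band (U.closedW W43 0x412c40) (sub (Nat.shiftLeft 1 6) 0x412c40) = true := by decide +kernel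

theorem sz48 : sizeOk 5 0x412c40 6 = true := by decide +kernel

theorem uok15 : Net.okb 5 un15 = true := by decide +kernel

theorem rel55 : U.rel 5 [31, 9, 9, 9, 9, 11, 11, 11, 11, 9, 9, 11, 9, 11, 9, 11] 0 5 = true := by decide +kernel

theorem uok16 : Net.okb 5 un16 = true := by decide +kernel

theorem rel56 : U.rel 5 [33, 9, 9, 9, 11, 11, 11, 9, 11, 9, 9, 11, 9, 11, 11, 9, 11, 9, 11, 9, 11, 9, 9, 11, 11, 11, 9, 9, 9, 11, 9, 9, 11] 0 5 = true := by decide +kernel

theorem gr57 : sub 0xffffff (U.growI W54 [0, 1, 1, 0, 0, 1, 1, 0, 1] (Nat.shiftLeft 1 0)) = true := by decide +kernel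

theorem cl59 : band (U.closedW W54 0xffffff) (sub (Nat.shiftLeft 1 0) 0xffffff) = true := by decide +kernel

theorem sz60 : sizeOk 5 0xffffff 24 = true := by decide +kernel

theorem fx63 : U.closedW W62 (Nat.shiftLeft 1 0) = true := by decide +kernel

theorem uok17 : Net.okb 5 un17 = true := by decide +kernel

theorem rel64 : U.rel 5 [35, 33, 33, 33, 31, 31, 33, 31, 31, 33, 31, 31] 0 5 = true := by decide +kernel

theorem uok18 : Net.okb 5 un18 = true := by decide +kernel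

theorem rel65 : U.rel 5 [37, 33, 31, 33, 31, 33, 31, 31, 31, 33, 33, 31, 31] 0 5 = true := by decide +kernel

theorem uok19 : Net.okb 5 un19 = true := by decide +kernel

theorem rel66 : U.rel 5 [39, 33, 31, 31, 31, 31, 31, 33, 31, 31, 31, 31, 31, 31, 31, 33, 31, 31, 31, 31, 33, 31, 31] 0 5 = true := by decide +kernel

theorem gr67 : sub 0xfffddc (U.growI W62 [0, 1, 1, 0, 0, 1, 1, 0, 0] (Nat.shiftLeft 1 2)) = true := by decide +kernel

theorem cl69 : band (U.closedW W62 0xfffddc) (sub (Nat.shiftLeft 1 2) 0xfffddc) = true := by decide +kernel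

theorem sz70 : sizeOk 5 0xfffddc 20 = true := by decide +kernel

theorem fx73 : U.closedW W72 (Nat.shiftLeft 1 2) = true := by decide +kernel

theorem uok20 : Net.okb 5 un20 = true := by decide +kernel

theorem rel74 : U.rel 5 [41, 39, 37, 37, 39, 37, 35, 39, 35, 39, 39, 37, 39, 35, 35, 37, 39, 35] 0 5 = true := by decide +kernel

theorem uok21 : Net.okb 5 un21 = true := by decide +kernel

theorem rel75 : U.rel 5 [43, 35, 35, 39, 37, 39, 37, 37, 39, 35, 39, 39, 35, 35, 39, 37, 39, 39, 35, 35, 39, 37, 39] 0 5 = true := by decide +kernel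

theorem uok22 : Net.okb 5 un22 = true := by decide +kernel

theorem rel76 : U.rel 5 [45, 35, 35, 35, 35, 37, 39, 37, 39, 35, 39, 39, 35, 35, 39, 39, 37, 37, 35, 39, 35, 35, 35, 37, 35, 37, 39, 35] 0 5 = true := by decide +kernel

theorem gr77 : sub 0xf3fdc8 (U.growI W72 [0, 1, 2, 2, 1, 0, 0] (Nat.shiftLeft 1 3)) = true := by decide +kernel

theorem cl79 : band (U.closedW W72 0xf3fdc8) (sub (Nat.shiftLeft 1 3) 0xf3fdc8) = true := by decide +kernel

theorem sz80 : sizeOk 5 0xf3fdc8 16 = true := by decide +kernel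

theorem fx83 : U.closedW W82 (Nat.shiftLeft 1 3) = true := by decide +kernel

theorem gr84 : sub 0x222 (U.growI W82 [2, 1] (Nat.shiftLeft 1 1)) = true := by decide +kernel

theorem cl86 : band (U.closedW W82 0x222) (sub (Nat.shiftLeft 1 1) 0x222) = true := by decide +kernel

theorem sz87 : sizeOk 5 0x222 3 = true := by decide +kernel

theorem fx90 : U.closedW W89 (Nat.shiftLeft 1 1) = true := by decide +kernel

theorem gr91 : sub 0xc24840 (U.growI W89 [0, 1, 0] (Nat.shiftLeft 1 6)) = true := by decide +kernel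

theorem cl93 : band (U.closedW W89 0xc24840) (sub (Nat.shiftLeft 1 6) 0xc24840) = true := by decide +kernel

theorem sz94 : sizeOk 5 0xc24840 6 = true := by decide +kernel

theorem uok23 : Net.okb 5 un23 = true := by decide +kernel

theorem rel101 : U.rel 5 [47, 13, 13, 15, 15, 15, 13, 15, 13, 13] 0 5 = true := by decide +kernel

theorem uok24 : Net.okb 5 un24 = true := by decide +kernel

theorem rel102 : U.rel 5 [49, 13, 13, 15, 13, 13, 15, 15, 15, 13, 15, 15, 13, 13, 13] 0 5 = true := by decide +kernel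

theorem gr103 : sub 0xfffebf (U.growI W100 [0, 1, 1, 0, 0, 1, 1] (Nat.shiftLeft 1 0)) = true := by decide +kernel

theorem cl105 : band (U.closedW W100 0xfffebf) (sub (Nat.shiftLeft 1 0) 0xfffebf) = true := by decide +kernel

theorem sz106 : sizeOk 5 0xfffebf 22 = true := by decide +kernel

theorem fx109 : U.closedW W108 (Nat.shiftLeft 1 0) = true := by decide +kernel

theorem uok25 : Net.okb 5 un25 = true := by decide +kernel

theorem rel110 : U.rel 5 [51, 49, 47, 49, 49, 49, 49, 47, 49, 47, 49, 47, 49, 47, 49, 49, 47, 49, 49, 47, 47] 0 5 = true := by decide +kernel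

theorem uok26 : Net.okb 5 un26 = true := by decide +kernel

theorem rel111 : U.rel 5 [53, 49, 49, 49, 47, 47, 47, 47, 47, 49, 47, 47, 49, 47, 47] 0 5 = true := by decide +kernel

theorem gr112 : sub 0xfffebe (U.growI W108 [0, 1, 1, 0, 0, 1, 1, 0] (Nat.shiftLeft 1 1)) = true := by decide +kernel

theorem cl114 : band (U.closedW W108 0xfffebe) (sub (Nat.shiftLeft 1 1) 0xfffebe) = true := by decide +kernel

theorem sz115 : sizeOk 5 0xfffebe 21 = true := by decide +kernel

theorem fx118 : U.closedW W117 (Nat.shiftLeft 1 1) = true := by decide +kernel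

theorem uok27 : Net.okb 5 un27 = true := by decide +kernel

theorem rel119 : U.rel 5 [55, 51, 53, 51, 53, 53, 51, 53, 51, 53] 0 5 = true := by decide +kernel

theorem uok28 : Net.okb 5 un28 = true := by decide +kernel

theorem rel120 : U.rel 5 [57, 53, 53, 53, 53, 51, 53, 51, 53, 53, 53, 53, 53, 51, 53, 53, 53, 51, 51, 51, 51, 53, 51] 0 5 = true := by decide +kernel

theorem gr121 : sub 0xfffebc (U.growI W117 [0, 1, 1, 0, 0, 1, 1, 0] (Nat.shiftLeft 1 2)) = true := by decide +kernel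

theorem cl123 : band (U.closedW W117 0xfffebc) (sub (Nat.shiftLeft 1 2) 0xfffebc) = true := by decide +kernel

theorem sz124 : sizeOk 5 0xfffebc 20 = true := by decide +kernel

theorem fx127 : U.closedW W126 (Nat.shiftLeft 1 2) = true := by decide +kernel

theorem uok29 : Net.okb 5 un29 = true := by decide +kernel

theorem rel128 : U.rel 5 [59, 57, 55, 55, 57, 55, 55, 57, 55, 57, 57, 55, 57, 55, 55, 55, 55] 0 5 = true := by decide +kernel

theorem uok30 : Net.okb 5 un30 = true := by decide +kernel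

theorem rel129 : U.rel 5 [61, 55, 57, 55, 55, 55, 57, 55, 57, 55, 55, 55, 57, 55, 57, 57, 55, 57, 55, 55, 55, 55, 55] 0 5 = true := by decide +kernel

theorem gr130 : sub 0xefbea8 (U.growI W126 [0, 1, 1, 0, 0, 1, 0] (Nat.shiftLeft 1 3)) = true := by decide +kernel

theorem cl132 : band (U.closedW W126 0xefbea8) (sub (Nat.shiftLeft 1 3) 0xefbea8) = true := by decide +kernel

theorem sz133 : sizeOk 5 0xefbea8 16 = true := by decide +kernel

theorem fx136 : U.closedW W135 (Nat.shiftLeft 1 3) = true := by decide +kernel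

theorem gr137 : sub 0x498a00 (U.growI W135 [0, 1, 0] (Nat.shiftLeft 1 9)) = true := by decide +kernel

theorem cl139 : band (U.closedW W135 0x498a00) (sub (Nat.shiftLeft 1 9) 0x498a00) = true := by decide +kernel

theorem sz140 : sizeOk 5 0x498a00 6 = true := by decide +kernel

end Cfsg.Agent.Spor.J4P.VB
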