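import Cfsg.Agent.Spor.Prim
import Cfsg.Agent.Spor.J4P.Main
import Cfsg.Agent.Spor.J4P.VB.C0
import Cfsg.Agent.Spor.TT2
import Cfsg.Agent.Spor.DE3
import Cfsg.Agent.Spor.J4P.Grp

set_option autoImplicit false
set_option maxRecDepth 100000000
set_option Elab.async false

namespace Cfsg.Agent.Spor.J4P.VB

theorem hU : U.Ok 5 := U.ok_of 5 (show AllP (fun n => Net.okb 5 n = true) [n0, n1, un2, un3, un4, un5, un6, un7, un8, un9, un10, un11, un12, un13, un14, un15, un16, un17, un18, un19, un20, un21, un22, un23, un24, un25, un26, un27, un28, un29, un30] from AllP.cons ok0 (AllP.cons ok1 (AllP.cons uok2 (AllP.cons uok3 (AllP.cons uok4 (AllP.cons uok5 (AllP.cons uok6 (AllP.cons uok7 (AllP.cons uok8 (AllP.cons uok9 (AllP.cons uok10 (AllP.cons uok11 (AllP.cons uok12 (AllP.cons uok13 (AllP.cons uok14 (AllP.cons uok15 (AllP.cons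 uok16 (AllP.cons uok17 (AllP.cons uok18 (AllP.cons uok19 (AllP.cons uok20 (AllP.cons uok21 (AllP.cons uok22 (AllP.cons uok23 (AllP.cons uok24 (AllP.cons uok25 (AllP.cons uok26 (AllP.cons uok27 (AllP.cons uok28 (AllP.cons uok29 (AllP.cons uok30 (AllP.nil))))))))))))))))))))))))))))))))

theorem hfP : ∀ j < 2, U.fP [1, 3] j = fP j := by
  intro j hj
  interval_cases j <;> rfl
theorem eG : gsub 2 fP = U.lsub W1 := (gsub_congr hfP).symm.trans (lsub_eq_gsub U [1, 3])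
theorem upz1 : ev (atm 2 fP) [0] = U.τ 1 := pz1
theorem upz3 : ev (atm 2 fP) [2] = U.τ 3 := pz2
theorem eH : wsub 2 fP BW = U.lsub W2 :=
  lsub_eq_of_all₂ (show List.Forall₂ _ [] [] from List.Forall₂.nil)
theorem vpz1 : PZ U (atm 2 fP) EXU 1 := pz1
theorem vpz2 : PZ U (atm 2 fP) EXU 2 := PZ.of_inv hiv vpz1 (by decide +kernel)
theorem vpz3 : PZ U (atm 2 fP) EXU 3 := pz2
theorem vpz4 : PZ U (atm 2 fP) EXU 4 := PZ.of_inv hiv vpz3 (by decide +kernel)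
theorem vpz5 : PZ U (atm 2 fP) EXU 5 := PZ.of_def hiv (d := [4, 2, 4, 2, 4, 2, 3, 2, 3, 2, 4, 2, 4, 2, 4, 2, 3, 2, 4, 2, 3, 2, 3, 2, 4, 2, 3, 2, 4, 2, 4, 2, 3, 2, 3, 2, 3, 2, 3, 1, 3, 1, 3, 1, 4, 1, 4, 1, 4, 1, 3, 1, 4, 1]) (AllP.cons vpz4 (AllP.cons vpz2 (AllP.cons vpz4 (AllP.cons vpz2 (AllP.cons vpz4 (AllP.cons vpz2 (AllP.cons vpz3 (AllP.cons vpz2 (AllP.cons vpz3 (AllP.cons vpz2 (AllP.cons vpz4 (AllP.cons vpz2 (AllP.cons vpz4 (AllP.cons vpz2 (AllP.cons vpz4 (AllP.cons vpz2 (AllP.cons vpz3 (AllP.cons vpz2 (AllP.cons vpz4 (AllP.cons vpz2 (AllP.cons vpz3 (AllP.cons vpz2 (AllP.cons vpz3 (AllP.cons vpz2 (AllP.cons vpz4 (AllP.cons vpz2 (AllP.cons vpz3 (AllP.cons vpz2 (AllP.cons vpz4 (AllP.cons vpz2 (AllP.cons vpz4 (AllP.cons vpz2 (AllP.cons vpz3 (AllP.cons vpz2 (AllP.cons vpz3 (AllP.cons vpz2 (AllP.cons vpz3 (AllP.cons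 vpz2 (AllP.cons vpz3 (AllP.cons vpz1 (AllP.cons vpz3 (AllP.cons vpz1 (AllP.cons vpz3 (AllP.cons vpz1 (AllP.cons vpz4 (AllP.cons vpz1 (AllP.cons vpz4 (AllP.cons vpz1 (AllP.cons vpz4 (AllP.cons vpz1 (AllP.cons vpz3 (AllP.cons vpz1 (AllP.cons vpz4 (AllP.cons vpz1 (AllP.nil))))))))))))))))))))))))))))))))))))))))))))))))))))))) (hU.one rel3) (by decide +kernel)
theorem vpz6 : PZ U (atm 2 fP) EXU 6 := PZ.of_inv hiv vpz5 (by decide +kernel)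
theorem vpz7 : PZ U (atm 2 fP) EXU 7 := PZ.of_def hiv (d := [2, 4, 2, 4, 2, 3, 2, 4, 2, 4, 2, 4, 2, 4, 2, 4, 2, 3, 2, 4, 2, 3, 2, 4, 2, 4, 2, 4, 2, 4, 2, 4, 2, 4, 2, 3, 2, 3, 2, 3, 1, 3, 1, 3, 1, 4, 1, 4, 1, 4, 1, 3, 1, 4, 1, 3, 1, 3, 1, 4]) (AllP.cons vpz2 (AllP.cons vpz4 (AllP.cons vpz2 (AllP.cons vpz4 (AllP.cons vpz2 (AllP.cons vpz3 (AllP.cons vpz2 (AllP.cons vpz4 (AllP.cons vpz2 (AllP.cons vpz4 (AllP.cons vpz2 (AllP.cons vpz4 (AllP.cons vpz2 (AllP.cons vpz4 (AllP.cons vpz2 (AllP.cons vpz4 (AllP.cons vpz2 (AllP.cons vpz3 (AllP.cons vpz2 (AllP.cons vpz4 (AllP.cons vpz2 (AllP.cons vpz3 (AllP.cons vpz2 (AllP.cons vpz4 (AllP.cons vpz2 (AllP.cons vpz4 (AllP.cons vpz2 (AllP.cons vpz4 (AllP.cons vpz2 (AllP.cons vpz4 (AllP.cons vpz2 (AllP.cons vpz4 (AllP.cons vpz2 (AllP.cons vpz4 (AllP.cons vpz2 (AllP.cons vpz3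 (AllP.cons vpz2 (AllP.cons vpz3 (AllP.cons vpz2 (AllP.cons vpz3 (AllP.cons vpz1 (AllP.cons vpz3 (AllP.cons vpz1 (AllP.cons vpz3 (AllP.cons vpz1 (AllP.cons vpz4 (AllP.cons vpz1 (AllP.cons vpz4 (AllP.cons vpz1 (AllP.cons vpz4 (AllP.cons vpz1 (AllP.cons vpz3 (AllP.cons vpz1 (AllP.cons vpz4 (AllP.cons vpz1 (AllP.cons vpz3 (AllP.cons vpz1 (AllP.cons vpz3 (AllP.cons vpz1 (AllP.cons vpz4 (AllP.nil))))))))))))))))))))))))))))))))))))))))))))))))))))))))))))) (hU.one rel4) (by decide +kernel)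
theorem vpz8 : PZ U (atm 2 fP) EXU 8 := PZ.of_inv hiv vpz7 (by decide +kernel)
theorem vpz9 : PZ U (atm 2 fP) EXU 9 := PZ.of_def hiv (d := [2, 3, 2, 4, 2, 3, 2, 3, 2, 3, 2, 4, 2, 4, 2, 4, 2, 4, 2, 4, 2, 4, 2, 3, 2, 3, 2, 4, 2, 3, 2, 4, 2, 4, 2, 3, 2, 4, 2, 3, 1, 3, 1, 3, 1, 4, 1, 4, 1, 3, 1, 3, 1, 3]) (AllP.cons vpz2 (AllP.cons vpz3 (AllP.cons vpz2 (AllP.cons vpz4 (AllP.cons vpz2 (AllP.cons vpz3 (AllP.cons vpz2 (AllP.cons vpz3 (AllP.cons vpz2 (AllP.cons vpz3 (AllP.cons vpz2 (AllP.cons vpz4 (AllP.cons vpz2 (AllP.cons vpz4 (AllP.cons vpz2 (AllP.cons vpz4 (AllP.cons vpz2 (AllP.cons vpz4 (AllP.cons vpz2 (AllP.cons vpz4 (AllP.cons vpz2 (AllP.cons vpz4 (AllP.cons vpz2 (AllP.cons vpz3 (AllP.cons vpz2 (AllP.cons vpz3 (AllP.cons vpz2 (AllP.cons vpz4 (AllP.cons vpz2 (AllP.cons vpz3 (AllP.cons vpz2 (AllP.cons vpz4 (AllP.cons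 vpz2 (AllP.cons vpz4 (AllP.cons vpz2 (AllP.cons vpz3 (AllP.cons vpz2 (AllP.cons vpz4 (AllP.cons vpz2 (AllP.cons vpz3 (AllP.cons vpz1 (AllP.cons vpz3 (AllP.cons vpz1 (AllP.cons vpz3 (AllP.cons vpz1 (AllP.cons vpz4 (AllP.cons vpz1 (AllP.cons vpz4 (AllP.cons vpz1 (AllP.cons vpz3 (AllP.cons vpz1 (AllP.cons vpz3 (AllP.cons vpz1 (AllP.cons vpz3 (AllP.nil))))))))))))))))))))))))))))))))))))))))))))))))))))))) (hU.one rel5) (by decide +kernel)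
theorem vpz10 : PZ U (atm 2 fP) EXU 10 := PZ.of_inv hiv vpz9 (by decide +kernel)
theorem vpz11 : PZ U (atm 2 fP) EXU 11 := PZ.of_def hiv (d := [3, 2, 4, 2, 4, 2, 3, 2, 4, 2, 3, 2, 3, 2, 3, 2, 4, 2, 4, 2, 4, 2, 4, 2, 4, 2, 3, 2, 3, 2, 3, 2, 3, 2, 3, 2, 3, 2, 4, 1, 3, 1, 4, 1, 3, 1, 3, 1, 3, 1, 3, 1, 3, 1, 4, 1, 3, 1, 3, 1]) (AllP.cons vpz3 (AllP.cons vpz2 (AllP.cons vpz4 (AllP.cons vpz2 (AllP.cons vpz4 (AllP.cons vpz2 (AllP.cons vpz3 (AllP.cons vpz2 (AllP.cons vpz4 (AllP.cons vpz2 (AllP.cons vpz3 (AllP.cons vpz2 (AllP.cons vpz3 (AllP.cons vpz2 (AllP.cons vpz3 (AllP.cons vpz2 (AllP.cons vpz4 (AllP.cons vpz2 (AllP.cons vpz4 (AllP.cons vpz2 (AllP.cons vpz4 (AllP.cons vpz2 (AllP.cons vpz4 (AllP.cons vpz2 (AllP.cons vpz4 (AllP.cons vpz2 (AllP.cons vpz3 (AllP.cons vpz2 (AllP.cons vpz3 (AllP.cons vpz2 (AllP.cons vpz3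 (AllP.cons vpz2 (AllP.cons vpz3 (AllP.cons vpz2 (AllP.cons vpz3 (AllP.cons vpz2 (AllP.cons vpz3 (AllP.cons vpz2 (AllP.cons vpz4 (AllP.cons vpz1 (AllP.cons vpz3 (AllP.cons vpz1 (AllP.cons vpz4 (AllP.cons vpz1 (AllP.cons vpz3 (AllP.cons vpz1 (AllP.cons vpz3 (AllP.cons vpz1 (AllP.cons vpz3 (AllP.cons vpz1 (AllP.cons vpz3 (AllP.cons vpz1 (AllP.cons vpz3 (AllP.cons vpz1 (AllP.cons vpz4 (AllP.cons vpz1 (AllP.cons vpz3 (AllP.cons vpz1 (AllP.cons vpz3 (AllP.cons vpz1 (AllP.nil))))))))))))))))))))))))))))))))))))))))))))))))))))))))))))) (hU.one rel6) (by decide +kernel)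
theorem vpz12 : PZ U (atm 2 fP) EXU 12 := PZ.of_inv hiv vpz11 (by decide +kernel)
theorem vpz13 : PZ U (atm 2 fP) EXU 13 := PZ.of_def hiv (d := [3, 2, 4, 2, 4, 2, 3, 2, 3, 2, 3, 2, 4, 2, 4, 2, 4, 2, 4, 2, 3, 2, 3, 2, 3, 2, 4, 2, 4, 2, 3, 2, 4, 2, 4, 2, 3, 2, 3, 1, 4, 1, 3, 1, 4, 1, 4, 1, 3, 1, 3, 1, 3, 1]) (AllP.cons vpz3 (AllP.cons vpz2 (AllP.cons vpz4 (AllP.cons vpz2 (AllP.cons vpz4 (AllP.cons vpz2 (AllP.cons vpz3 (AllP.cons vpz2 (AllP.cons vpz3 (AllP.cons vpz2 (AllP.cons vpz3 (AllP.cons vpz2 (AllP.cons vpz4 (AllP.cons vpz2 (AllP.cons vpz4 (AllP.cons vpz2 (AllP.cons vpz4 (AllP.cons vpz2 (AllP.cons vpz4 (AllP.cons vpz2 (AllP.cons vpz3 (AllP.cons vpz2 (AllP.cons vpz3 (AllP.cons vpz2 (AllP.cons vpz3 (AllP.cons vpz2 (AllP.cons vpz4 (AllP.cons vpz2 (AllP.cons vpz4 (AllP.cons vpz2 (AllP.cons vpz3 (AllP.cons vpz2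 (AllP.cons vpz4 (AllP.cons vpz2 (AllP.cons vpz4 (AllP.cons vpz2 (AllP.cons vpz3 (AllP.cons vpz2 (AllP.cons vpz3 (AllP.cons vpz1 (AllP.cons vpz4 (AllP.cons vpz1 (AllP.cons vpz3 (AllP.cons vpz1 (AllP.cons vpz4 (AllP.cons vpz1 (AllP.cons vpz4 (AllP.cons vpz1 (AllP.cons vpz3 (AllP.cons vpz1 (AllP.cons vpz3 (AllP.cons vpz1 (AllP.cons vpz3 (AllP.cons vpz1 (AllP.nil))))))))))))))))))))))))))))))))))))))))))))))))))))))) (hU.one rel7) (by decide +kernel)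
theorem vpz14 : PZ U (atm 2 fP) EXU 14 := PZ.of_inv hiv vpz13 (by decide +kernel)
theorem vpz15 : PZ U (atm 2 fP) EXU 15 := PZ.of_def hiv (d := [2, 4, 2, 4, 2, 4, 2, 4, 2, 4, 2, 3, 2, 3, 2, 4, 2, 4, 2, 3, 2, 3, 2, 3, 2, 3, 2, 4, 2, 4, 2, 4, 2, 3, 2, 4, 2, 3, 2, 3, 1, 3, 1, 3, 1, 4, 1, 3, 1, 3, 1, 3]) (AllP.cons vpz2 (AllP.cons vpz4 (AllP.cons vpz2 (AllP.cons vpz4 (AllP.cons vpz2 (AllP.cons vpz4 (AllP.cons vpz2 (AllP.cons vpz4 (AllP.cons vpz2 (AllP.cons vpz4 (AllP.cons vpz2 (AllP.cons vpz3 (AllP.cons vpz2 (AllP.cons vpz3 (AllP.cons vpz2 (AllP.cons vpz4 (AllP.cons vpz2 (AllP.cons vpz4 (AllP.cons vpz2 (AllP.cons vpz3 (AllP.cons vpz2 (AllP.cons vpz3 (AllP.cons vpz2 (AllP.cons vpz3 (AllP.cons vpz2 (AllP.cons vpz3 (AllP.cons vpz2 (AllP.cons vpz4 (AllP.cons vpz2 (AllP.cons vpz4 (AllP.cons vpz2 (AllP.cons vpz4 (AllP.cons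 vpz2 (AllP.cons vpz3 (AllP.cons vpz2 (AllP.cons vpz4 (AllP.cons vpz2 (AllP.cons vpz3 (AllP.cons vpz2 (AllP.cons vpz3 (AllP.cons vpz1 (AllP.cons vpz3 (AllP.cons vpz1 (AllP.cons vpz3 (AllP.cons vpz1 (AllP.cons vpz4 (AllP.cons vpz1 (AllP.cons vpz3 (AllP.cons vpz1 (AllP.cons vpz3 (AllP.cons vpz1 (AllP.cons vpz3 (AllP.nil))))))))))))))))))))))))))))))))))))))))))))))))))))) (hU.one rel8) (by decide +kernel)
theorem vpz16 : PZ U (atm 2 fP) EXU 16 := PZ.of_inv hiv vpz15 (by decide +kernel)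
theorem hPZU : AllP (PZ U (atm 2 fP) EXU) LU :=
  show AllP (PZ U (atm 2 fP) EXU) [1, 2, 3, 4, 5, 6, 7, 8, 9, 10, 11, 12, 13, 14, 15, 16] from AllP.cons vpz1 (AllP.cons vpz2 (AllP.cons vpz3 (AllP.cons vpz4 (AllP.cons vpz5 (AllP.cons vpz6 (AllP.cons vpz7 (AllP.cons vpz8 (AllP.cons vpz9 (AllP.cons vpz10 (AllP.cons vpz11 (AllP.cons vpz12 (AllP.cons vpz13 (AllP.cons vpz14 (AllP.cons vpz15 (AllP.cons vpz16 (AllP.nil))))))))))))))))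
theorem eL : wsub 2 fP [[2, 0, 2, 0, 2, 0, 3, 0, 3, 0, 2, 0, 2, 0, 2, 0, 3, 0, 2, 0, 3, 0, 3, 0, 2, 0, 3, 0, 2, 0, 2, 0, 3, 0, 3, 0, 3, 0, 3, 1, 3, 1, 3, 1, 2, 1, 2, 1, 2, 1, 3, 1, 2, 1], [0, 2, 0, 2, 0, 3, 0, 2, 0, 2, 0, 2, 0, 2, 0, 2, 0, 3, 0, 2, 0, 3, 0, 2, 0, 2, 0, 2, 0, 2, 0, 2, 0, 2, 0, 3, 0, 3, 0, 3, 1, 3, 1, 3, 1, 2, 1, 2, 1, 2, 1, 3, 1, 2, 1, 3, 1, 3, 1, 2]] = U.lsub W9 :=
  lsub_eq_of_all₂ (show List.Forall₂ _ [[2, 0, 2, 0, 2, 0, 3, 0, 3, 0, 2, 0, 2, 0, 2, 0, 3, 0, 2, 0, 3, 0, 3, 0, 2, 0, 3, 0, 2, 0, 2, 0, 3, 0, 3, 0, 3, 0, 3, 1, 3, 1, 3, 1, 2, 1, 2, 1, 2, 1, 3, 1, 2, 1], [0, 2, 0, 2, 0, 3, 0, 2, 0, 2, 0, 2, 0, 2, 0, 2, 0, 3, 0, 2, 0, 3, 0, 2, 0, 2, 0, 2, 0, 2, 0, 2, 0, 2, 0, 3, 0, 3, 0, 3, 1, 3, 1, 3, 1, 2, 1, 2, 1, 2, 1, 3, 1, 2, 1, 3, 1, 3, 1, 2]] [[5], [7]] from List.Forall₂.cons ((show ev (atm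 2 fP) [2, 0, 2, 0, 2, 0, 3, 0, 3, 0, 2, 0, 2, 0, 2, 0, 3, 0, 2, 0, 3, 0, 3, 0, 2, 0, 3, 0, 2, 0, 2, 0, 3, 0, 3, 0, 3, 0, 3, 1, 3, 1, 3, 1, 2, 1, 2, 1, 2, 1, 3, 1, 2, 1] = U.τ 5 from vpz5).trans (one_mul _).symm) (List.Forall₂.cons ((show ev (atm 2 fP) [0, 2, 0, 2, 0, 3, 0, 2, 0, 2, 0, 2, 0, 2, 0, 2, 0, 3, 0, 2, 0, 3, 0, 2, 0, 2, 0, 2, 0, 2, 0, 2, 0, 2, 0, 3, 0, 3, 0, 3, 1, 3, 1, 3, 1, 2, 1, 2, 1, 2, 1, 3, 1, 2, 1, 3, 1, 3, 1, 2] = U.τ 7 from vpz7).trans (one_mul _).symm) (List.Forall₂.nil)))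
theorem reach13 : Reach (U.lsub W9) 0 0xffffff := (Reach.grow hU (Reach.base _ 0) gr12)
theorem orb16 : (orbS (U.lsub W9) 0).ncard = 24 := reach13.ncard hU cl14 sz15
theorem orb16e : orbS (U.lsub W9) 0 = {c | Nat.testBit 0xffffff c = true} := reach13.orb hU cl14
theorem reach23 : Reach (U.lsub W17) 2 0xfffddc := (Reach.grow hU (Reach.base _ 2) gr22)
theorem orb26 : (orbS (U.lsub W17) 2).ncard = 20 := reach23.ncard hU cl24 sz25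
theorem orb26e : orbS (U.lsub W17) 2 = {c | Nat.testBit 0xfffddc c = true} := reach23.orb hU cl24
theorem reach30 : Reach (U.lsub W27) 9 0x222 := (Reach.grow hU (Reach.base _ 9) gr29)
theorem orb33 : (orbS (U.lsub W27) 9).ncard = 3 := reach30.ncard hU cl31 sz32
theorem orb33e : orbS (U.lsub W27) 9 = {c | Nat.testBit 0x222 c = true} := reach30.orb hU cl31
theorem reach39 : Reach (U.lsub W34) 3 0xf3fdc8 := (Reach.grow hU (Reach.base _ 3) gr38)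
theorem orb42 : (orbS (U.lsub W34) 3).ncard = 16 := reach39.ncard hU cl40 sz41
theorem orb42e : orbS (U.lsub W34) 3 = {c | Nat.testBit 0xf3fdc8 c = true} := reach39.orb hU cl40
theorem reach46 : Reach (U.lsub W43) 6 0x412c40 := (Reach.grow hU (Reach.base _ 6) gr45)
theorem orb49 : (orbS (U.lsub W43) 6).ncard = 6 := reach46.ncard hU cl47 sz48
theorem orb49e : orbS (U.lsub W43) 6 = {c | Nat.testBit 0x412c40 c = true} := reach46.orb hU cl47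
theorem lbL50 : 6 ∣ Nat.card (U.lsub W43) := dvd_card_orb orb49
theorem lbL51 : 96 ∣ Nat.card (U.lsub W34) :=
  dvd_card_step (s := 16) (M := 6) (B := U.lsub W43) (Tab.lsub_le_all (AllP.cons (mem_of_rel (hU.one rel36) (U.mem_letters (by decide))) (AllP.cons (mem_of_rel (hU.one rel37) (U.mem_letters (by decide))) (AllP.nil)))) (hU.fixes fx44) orb42 lbL50
theorem lbL52 : 288 ∣ Nat.card (U.lsub W27) :=
  dvd_card_step (s := 3) (M := 96) (B := U.lsub W34) (U.lsub_sub (by decide)) (hU.fixes fx35) orb33 lbL51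
theorem lbL53 : 5760 ∣ Nat.card (U.lsub W17) :=
  dvd_card_step (s := 20) (M := 288) (B := U.lsub W27) (Tab.lsub_le_all (AllP.cons (mem_of_rel (hU.one rel19) (U.mem_letters (by decide))) (AllP.cons (mem_of_rel (hU.one rel20) (U.mem_letters (by decide))) (AllP.cons (mem_of_rel (hU.one rel21) (U.mem_letters (by decide))) (AllP.nil))))) (hU.fixes fx28) orb26 lbL52
theorem lbL : 138240 ∣ Nat.card (U.lsub W9) :=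
  dvd_card_step (s := 24) (M := 5760) (B := U.lsub W17) (Tab.lsub_le_all (AllP.cons (mem_of_rel (hU.one rel10) (U.mem_letters (by decide))) (AllP.cons (mem_of_rel (hU.one rel11) (U.mem_letters (by decide))) (AllP.nil)))) (hU.fixes fx18) orb16 lbL53
theorem cardL : 138240 ∣ Nat.card (wsub 2 p [[2, 0, 2, 0, 2, 0, 3, 0, 3, 0, 2, 0, 2, 0, 2, 0, 3, 0, 2, 0, 3, 0, 3, 0, 2, 0, 3, 0, 2, 0, 2, 0, 3, 0, 3, 0, 3, 0, 3, 1, 3, 1, 3, 1, 2, 1, 2, 1, 2, 1, 3, 1, 2, 1], [0, 2, 0, 2, 0, 3, 0, 2, 0, 2, 0, 2, 0, 2, 0, 2, 0, 3, 0, 2, 0, 3, 0, 2, 0, 2, 0, 2, 0, 2, 0, 2, 0, 2, 0, 3, 0, 3, 0, 3, 1, 3, 1, 3, 1, 2, 1, 2, 1, 2, 1, 3, 1, 2, 1, 3, 1, 3, 1, 2]]) := by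
  rw [card_wsub_lift, eL]; exact lbL
theorem eS1 : wsub 2 fP [[0, 3, 0, 2, 0, 3, 0, 3, 0, 3, 0, 2, 0, 2, 0, 2, 0, 2, 0, 2, 0, 2, 0, 3, 0, 3, 0, 2, 0, 3, 0, 2, 0, 2, 0, 3, 0, 2, 0, 3, 1, 3, 1, 3, 1, 2, 1, 2, 1, 3, 1, 3, 1, 3], [3, 0, 2, 0, 2, 0, 3, 0, 2, 0, 3, 0, 3, 0, 3, 0, 2, 0, 2, 0, 2, 0, 2, 0, 2, 0, 3, 0, 3, 0, 3, 0, 3, 0, 3, 0, 3, 0, 2, 1, 3, 1, 2, 1, 3, 1, 3, 1, 3, 1, 3, 1, 3, 1, 2, 1, 3, 1, 3, 1]] = U.lsub W54 :=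
  lsub_eq_of_all₂ (show List.Forall₂ _ [[0, 3, 0, 2, 0, 3, 0, 3, 0, 3, 0, 2, 0, 2, 0, 2, 0, 2, 0, 2, 0, 2, 0, 3, 0, 3, 0, 2, 0, 3, 0, 2, 0, 2, 0, 3, 0, 2, 0, 3, 1, 3, 1, 3, 1, 2, 1, 2, 1, 3, 1, 3, 1, 3], [3, 0, 2, 0, 2, 0, 3, 0, 2, 0, 3, 0, 3, 0, 3, 0, 2, 0, 2, 0, 2, 0, 2, 0, 2, 0, 3, 0, 3, 0, 3, 0, 3, 0, 3, 0, 3, 0, 2, 1, 3, 1, 2, 1, 3, 1, 3, 1, 3, 1, 3, 1, 3, 1, 2, 1, 3, 1, 3, 1]] [[9], [11]] from List.Forall₂.cons ((show ev (atm 2 fP) [0, 3, 0, 2, 0, 3, 0, 3, 0, 3, 0, 2, 0, 2, 0, 2, 0, 2, 0, 2, 0, 2, 0, 3, 0, 3, 0, 2, 0, 3, 0, 2, 0, 2, 0, 3, 0, 2, 0, 3, 1, 3, 1, 3, 1, 2, 1, 2, 1, 3, 1, 3, 1, 3] = U.τ 9 from vpz9).trans (one_mul _).symm) (List.Forall₂.cons ((show ev (atm 2 fP) [3, 0, 2, 0, 2, 0, 3, 0, 2, 0, 3, 0, 3, 0, 3, 0, 2, 0, 2, 0, 2, 0, 2, 0, 2, 0, 3, 0, 3, 0, 3, 0, 3, 0, 3, 0, 3, 0, 2, 1, 3, 1, 2,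 1, 3, 1, 3, 1, 3, 1, 3, 1, 3, 1, 2, 1, 3, 1, 3, 1] = U.τ 11 from vpz11).trans (one_mul _).symm) (List.Forall₂.nil)))
theorem reach58 : Reach (U.lsub W54) 0 0xffffff := (Reach.grow hU (Reach.base _ 0) gr57)
theorem orb61 : (orbS (U.lsub W54) 0).ncard = 24 := reach58.ncard hU cl59 sz60
theorem orb61e : orbS (U.lsub W54) 0 = {c | Nat.testBit 0xffffff c = true} := reach58.orb hU cl59
theorem reach68 : Reach (U.lsub W62) 2 0xfffddc := (Reach.grow hU (Reach.base _ 2) gr67)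
theorem orb71 : (orbS (U.lsub W62) 2).ncard = 20 := reach68.ncard hU cl69 sz70
theorem orb71e : orbS (U.lsub W62) 2 = {c | Nat.testBit 0xfffddc c = true} := reach68.orb hU cl69
theorem reach78 : Reach (U.lsub W72) 3 0xf3fdc8 := (Reach.grow hU (Reach.base _ 3) gr77)
theorem orb81 : (orbS (U.lsub W72) 3).ncard = 16 := reach78.ncard hU cl79 sz80
theorem orb81e : orbS (U.lsub W72) 3 = {c | Nat.testBit 0xf3fdc8 c = true} := reach78.orb hU cl79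
theorem reach85 : Reach (U.lsub W82) 1 0x222 := (Reach.grow hU (Reach.base _ 1) gr84)
theorem orb88 : (orbS (U.lsub W82) 1).ncard = 3 := reach85.ncard hU cl86 sz87
theorem orb88e : orbS (U.lsub W82) 1 = {c | Nat.testBit 0x222 c = true} := reach85.orb hU cl86
theorem reach92 : Reach (U.lsub W89) 6 0xc24840 := (Reach.grow hU (Reach.base _ 6) gr91)
theorem orb95 : (orbS (U.lsub W89) 6).ncard = 6 := reach92.ncard hU cl93 sz94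
theorem orb95e : orbS (U.lsub W89) 6 = {c | Nat.testBit 0xc24840 c = true} := reach92.orb hU cl93
theorem lbS196 : 6 ∣ Nat.card (U.lsub W89) := dvd_card_orb orb95
theorem lbS197 : 18 ∣ Nat.card (U.lsub W82) :=
  dvd_card_step (s := 3) (M := 6) (B := U.lsub W89) (U.lsub_sub (by decide)) (hU.fixes fx90) orb88 lbS196
theorem lbS198 : 288 ∣ Nat.card (U.lsub W72) :=
  dvd_card_step (s := 16) (M := 18) (B := U.lsub W82) (Tab.lsub_le_all (AllP.cons (mem_of_rel (hU.one rel74) (U.mem_letters (by decide))) (AllP.cons (mem_of_rel (hU.one rel75) (U.mem_letters (by decide))) (AllP.cons (mem_of_rel (hU.one rel76) (U.mem_letters (by decide))) (AllP.nil))))) (hU.fixes fx83) orb81 lbS197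
theorem lbS199 : 5760 ∣ Nat.card (U.lsub W62) :=
  dvd_card_step (s := 20) (M := 288) (B := U.lsub W72) (Tab.lsub_le_all (AllP.cons (mem_of_rel (hU.one rel64) (U.mem_letters (by decide))) (AllP.cons (mem_of_rel (hU.one rel65) (U.mem_letters (by decide))) (AllP.cons (mem_of_rel (hU.one rel66) (U.mem_letters (by decide))) (AllP.nil))))) (hU.fixes fx73) orb71 lbS198
theorem lbS1 : 138240 ∣ Nat.card (U.lsub W54) :=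
  dvd_card_step (s := 24) (M := 5760) (B := U.lsub W62) (Tab.lsub_le_all (AllP.cons (mem_of_rel (hU.one rel55) (U.mem_letters (by decide))) (AllP.cons (mem_of_rel (hU.one rel56) (U.mem_letters (by decide))) (AllP.nil)))) (hU.fixes fx63) orb61 lbS199
theorem cardS1 : 138240 ∣ Nat.card (wsub 2 p [[0, 3, 0, 2, 0, 3, 0, 3, 0, 3, 0, 2, 0, 2, 0, 2, 0, 2, 0, 2, 0, 2, 0, 3, 0, 3, 0, 2, 0, 3, 0, 2, 0, 2, 0, 3, 0, 2, 0, 3, 1, 3, 1, 3, 1, 2, 1, 2, 1, 3, 1, 3, 1, 3], [3, 0, 2, 0, 2, 0, 3, 0, 2, 0, 3, 0, 3, 0, 3, 0, 2, 0, 2, 0, 2, 0, 2, 0, 2, 0, 3, 0, 3, 0, 3, 0, 3, 0, 3, 0, 3, 0, 2, 1, 3, 1, 2, 1, 3, 1, 3, 1, 3, 1, 3, 1, 3, 1, 2, 1, 3, 1, 3, 1]]) := by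
  rw [card_wsub_lift, eS1]; exact lbS1
theorem eS3 : wsub 2 fP [[3, 0, 2, 0, 2, 0, 3, 0, 3, 0, 3, 0, 2, 0, 2, 0, 2, 0, 2, 0, 3, 0, 3, 0, 3, 0, 2, 0, 2, 0, 3, 0, 2, 0, 2, 0, 3, 0, 3, 1, 2, 1, 3, 1, 2, 1, 2, 1, 3, 1, 3, 1, 3, 1], [0, 2, 0, 2, 0, 2, 0, 2, 0, 2, 0, 3, 0, 3, 0, 2, 0, 2, 0, 3, 0, 3, 0, 3, 0, 3, 0, 2, 0, 2, 0, 2, 0, 3, 0, 2, 0, 3, 0, 3, 1, 3, 1, 3, 1, 2, 1, 3, 1, 3, 1, 3]] = U.lsub W100 :=
  lsub_eq_of_all₂ (show List.Forall₂ _ [[3, 0, 2, 0, 2, 0, 3, 0, 3, 0, 3, 0, 2, 0, 2, 0, 2, 0, 2, 0, 3, 0, 3, 0, 3, 0, 2, 0, 2, 0, 3, 0, 2, 0, 2, 0, 3, 0, 3, 1, 2, 1, 3, 1, 2, 1, 2, 1, 3, 1, 3, 1, 3, 1], [0, 2, 0, 2, 0, 2, 0, 2, 0, 2, 0, 3, 0, 3, 0, 2, 0, 2, 0, 3, 0, 3, 0, 3, 0, 3, 0, 2, 0, 2, 0, 2, 0, 3, 0, 2, 0, 3, 0, 3, 1, 3, 1, 3, 1, 2, 1, 3, 1, 3, 1, 3]] [[13], [15]] from List.Forall₂.cons ((show ev (atm 2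 fP) [3, 0, 2, 0, 2, 0, 3, 0, 3, 0, 3, 0, 2, 0, 2, 0, 2, 0, 2, 0, 3, 0, 3, 0, 3, 0, 2, 0, 2, 0, 3, 0, 2, 0, 2, 0, 3, 0, 3, 1, 2, 1, 3, 1, 2, 1, 2, 1, 3, 1, 3, 1, 3, 1] = U.τ 13 from vpz13).trans (one_mul _).symm) (List.Forall₂.cons ((show ev (atm 2 fP) [0, 2, 0, 2, 0, 2, 0, 2, 0, 2, 0, 3, 0, 3, 0, 2, 0, 2, 0, 3, 0, 3, 0, 3, 0, 3, 0, 2, 0, 2, 0, 2, 0, 3, 0, 2, 0, 3, 0, 3, 1, 3, 1, 3, 1, 2, 1, 3, 1, 3, 1, 3] = U.τ 15 from vpz15).trans (one_mul _).symm) (List.Forall₂.nil)))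
theorem reach104 : Reach (U.lsub W100) 0 0xfffebf := (Reach.grow hU (Reach.base _ 0) gr103)
theorem orb107 : (orbS (U.lsub W100) 0).ncard = 22 := reach104.ncard hU cl105 sz106
theorem orb107e : orbS (U.lsub W100) 0 = {c | Nat.testBit 0xfffebf c = true} := reach104.orb hU cl105
theorem reach113 : Reach (U.lsub W108) 1 0xfffebe := (Reach.grow hU (Reach.base _ 1) gr112)
theorem orb116 : (orbS (U.lsub W108) 1).ncard = 21 := reach113.ncard hU cl114 sz115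
theorem orb116e : orbS (U.lsub W108) 1 = {c | Nat.testBit 0xfffebe c = true} := reach113.orb hU cl114
theorem reach122 : Reach (U.lsub W117) 2 0xfffebc := (Reach.grow hU (Reach.base _ 2) gr121)
theorem orb125 : (orbS (U.lsub W117) 2).ncard = 20 := reach122.ncard hU cl123 sz124
theorem orb125e : orbS (U.lsub W117) 2 = {c | Nat.testBit 0xfffebc c = true} := reach122.orb hU cl123
theorem reach131 : Reach (U.lsub W126) 3 0xefbea8 := (Reach.grow hU (Reach.base _ 3) gr130)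
theorem orb134 : (orbS (U.lsub W126) 3).ncard = 16 := reach131.ncard hU cl132 sz133
theorem orb134e : orbS (U.lsub W126) 3 = {c | Nat.testBit 0xefbea8 c = true} := reach131.orb hU cl132
theorem reach138 : Reach (U.lsub W135) 9 0x498a00 := (Reach.grow hU (Reach.base _ 9) gr137)
theorem orb141 : (orbS (U.lsub W135) 9).ncard = 6 := reach138.ncard hU cl139 sz140
theorem orb141e : orbS (U.lsub W135) 9 = {c | Nat.testBit 0x498a00 c = true} := reach138.orb hU cl139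
theorem lbS3142 : 6 ∣ Nat.card (U.lsub W135) := dvd_card_orb orb141
theorem lbS3143 : 96 ∣ Nat.card (U.lsub W126) :=
  dvd_card_step (s := 16) (M := 6) (B := U.lsub W135) (Tab.lsub_le_all (AllP.cons (mem_of_rel (hU.one rel128) (U.mem_letters (by decide))) (AllP.cons (mem_of_rel (hU.one rel129) (U.mem_letters (by decide))) (AllP.nil)))) (hU.fixes fx136) orb134 lbS3142
theorem lbS3144 : 1920 ∣ Nat.card (U.lsub W117) :=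
  dvd_card_step (s := 20) (M := 96) (B := U.lsub W126) (Tab.lsub_le_all (AllP.cons (mem_of_rel (hU.one rel119) (U.mem_letters (by decide))) (AllP.cons (mem_of_rel (hU.one rel120) (U.mem_letters (by decide))) (AllP.nil)))) (hU.fixes fx127) orb125 lbS3143
theorem lbS3145 : 40320 ∣ Nat.card (U.lsub W108) :=
  dvd_card_step (s := 21) (M := 1920) (B := U.lsub W117) (Tab.lsub_le_all (AllP.cons (mem_of_rel (hU.one rel110) (U.mem_letters (by decide))) (AllP.cons (mem_of_rel (hU.one rel111) (U.mem_letters (by decide))) (AllP.nil)))) (hU.fixes fx118) orb116 lbS3144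
theorem lbS3 : 887040 ∣ Nat.card (U.lsub W100) :=
  dvd_card_step (s := 22) (M := 40320) (B := U.lsub W108) (Tab.lsub_le_all (AllP.cons (mem_of_rel (hU.one rel101) (U.mem_letters (by decide))) (AllP.cons (mem_of_rel (hU.one rel102) (U.mem_letters (by decide))) (AllP.nil)))) (hU.fixes fx109) orb107 lbS3145
theorem cardS3 : 887040 ∣ Nat.card (wsub 2 p [[3, 0, 2, 0, 2, 0, 3, 0, 3, 0, 3, 0, 2, 0, 2, 0, 2, 0, 2, 0, 3, 0, 3, 0, 3, 0, 2, 0, 2, 0, 3, 0, 2, 0, 2, 0, 3, 0, 3, 1, 2, 1, 3, 1, 2, 1, 2, 1, 3, 1, 3, 1, 3, 1], [0, 2, 0, 2, 0, 2, 0, 2, 0, 2, 0, 3, 0, 3, 0, 2, 0, 2, 0, 3, 0, 3, 0, 3, 0, 3, 0, 2, 0, 2, 0, 2, 0, 3, 0, 2, 0, 3, 0, 3, 1, 3, 1, 3, 1, 2, 1, 3, 1, 3, 1, 3]]) := by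
  rw [card_wsub_lift, eS3]; exact lbS3

end Cfsg.Agent.Spor.J4P.VB
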