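import Cfsg.Agent.Spor.Chk2
import Cfsg.Agent.Spor.J4P.D0

set_option autoImplicit false
set_option maxRecDepth 100000000
set_option Elab.async false
noncomputable section

namespace Cfsg.Agent.Spor.J4P.VB

def W1 : List (List Nat) := [[1], [3]]

def W2 : List (List Nat) := []

def um2_0 : Nat := nat_lit 0x208e
def um2_1 : Nat := nat_lit 0x2000e8
def um2_2 : Nat := nat_lit 0x10f08
def um2_3 : Nat := nat_lit 0x101000
def um2_4 : Nat := nat_lit 0x44101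
def um2_5 : Nat := nat_lit 0x1001
def um2_6 : Nat := nat_lit 0x40000
def um2_7 : Nat := nat_lit 0x33
def um2_8 : Nat := nat_lit 0x209a
def un2 : Net := Net.cons 16 um2_0 (Net.cons 8 um2_1 (Net.cons 4 um2_2 (Net.cons 2 um2_3 (Net.cons 1 um2_4 (Net.cons 2 um2_5 (Net.cons 4 um2_6 (Net.cons 8 um2_7 (Net.cons 16 um2_8 (Net.nil)))))))))

def um3_0 : Nat := nat_lit 0xe51
def um3_1 : Nat := nat_lit 0x32005c
def um3_2 : Nat := nat_lit 0x8040206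
def um3_3 : Nat := nat_lit 0x21000321
def um3_4 : Nat := nat_lit 0x11414501
def um3_5 : Nat := nat_lit 0x1010000
def um3_6 : Nat := nat_lit 0x80c0306
def um3_7 : Nat := nat_lit 0x38008c
def um3_8 : Nat := nat_lit 0xe11
def un3 : Net := Net.cons 16 um3_0 (Net.cons 8 um3_1 (Net.cons 4 um3_2 (Net.cons 2 um3_3 (Net.cons 1 um3_4 (Net.cons 2 um3_5 (Net.cons 4 um3_6 (Net.cons 8 um3_7 (Net.cons 16 um3_8 (Net.nil)))))))))

def um4_0 : Nat := nat_lit 0x209a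
def um4_1 : Nat := nat_lit 0x20005e
def um4_2 : Nat := nat_lit 0x4000c
def um4_3 : Nat := nat_lit 0x101100
def um4_4 : Nat := nat_lit 0x44101
def um4_5 : Nat := nat_lit 0x1000
def um4_6 : Nat := nat_lit 0x10902
def um4_7 : Nat := nat_lit 0xe
def um4_8 : Nat := nat_lit 0x208e
def un4 : Net := Net.cons 16 um4_0 (Net.cons 8 um4_1 (Net.cons 4 um4_2 (Net.cons 2 um4_3 (Net.cons 1 um4_4 (Net.cons 2 um4_5 (Net.cons 4 um4_6 (Net.cons 8 um4_7 (Net.cons 16 um4_8 (Net.nil)))))))))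

def um5_0 : Nat := nat_lit 0xe11
def um5_1 : Nat := nat_lit 0x38008c
def um5_2 : Nat := nat_lit 0x80c0306
def um5_3 : Nat := nat_lit 0x1010320
def um5_4 : Nat := nat_lit 0x11414501
def um5_5 : Nat := nat_lit 0x21000001
def um5_6 : Nat := nat_lit 0x8040206
def um5_7 : Nat := nat_lit 0x32005c
def um5_8 : Nat := nat_lit 0xe51
def un5 : Net := Net.cons 16 um5_0 (Net.cons 8 um5_1 (Net.cons 4 um5_2 (Net.cons 2 um5_3 (Net.cons 1 um5_4 (Net.cons 2 um5_5 (Net.cons 4 um5_6 (Net.cons 8 um5_7 (Net.cons 16 um5_8 (Net.nil)))))))))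

def um6_0 : Nat := nat_lit 0x613
def um6_1 : Nat := nat_lit 0x270033
def um6_2 : Nat := nat_lit 0x20004
def um6_3 : Nat := nat_lit 0x302031
def um6_4 : Nat := nat_lit 0x1105140
def um6_5 : Nat := nat_lit 0x1000200
def um6_6 : Nat := nat_lit 0x202000c
def um6_7 : Nat := nat_lit 0x23001b
def um6_8 : Nat := nat_lit 0x681
def un6 : Net := Net.cons 16 um6_0 (Net.cons 8 um6_1 (Net.cons 4 um6_2 (Net.cons 2 um6_3 (Net.cons 1 um6_4 (Net.cons 2 um6_5 (Net.cons 4 um6_6 (Net.cons 8 um6_7 (Net.cons 16 um6_8 (Net.nil)))))))))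

def um7_0 : Nat := nat_lit 0x83a
def um7_1 : Nat := nat_lit 0x4800a2
def um7_2 : Nat := nat_lit 0x401010e
def um7_3 : Nat := nat_lit 0x212023
def um7_4 : Nat := nat_lit 0x4154054
def um7_5 : Nat := nat_lit 0x1000
def um7_6 : Nat := nat_lit 0x4080100
def um7_7 : Nat := nat_lit 0x480043
def um7_8 : Nat := nat_lit 0x830
def un7 : Net := Net.cons 16 um7_0 (Net.cons 8 um7_1 (Net.cons 4 um7_2 (Net.cons 2 um7_3 (Net.cons 1 um7_4 (Net.cons 2 um7_5 (Net.cons 4 um7_6 (Net.cons 8 um7_7 (Net.cons 16 um7_8 (Net.nil)))))))))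

def EXU : List (List Nat) := [[], [0], [1], [2], [3], [2, 0, 2, 0, 2, 0, 3, 0, 3, 0, 2, 0, 2, 0, 2, 0, 3, 0, 2, 0, 3, 0, 3, 0, 2, 0, 3, 0, 2, 0, 2, 0, 3, 0, 3, 0, 3, 0, 3, 1, 3, 1, 3, 1, 2, 1, 2, 1, 2, 1, 3, 1, 2, 1], [0, 3, 0, 2, 0, 3, 0, 3, 0, 3, 0, 2, 0, 2, 0, 2, 1, 2, 1, 2, 1, 2, 1, 3, 1, 3, 1, 2, 1, 3, 1, 2, 1, 2, 1, 3, 1, 2, 1, 3, 1, 3, 1, 3, 1, 2, 1, 2, 1, 3, 1, 3, 1, 3], [0, 2, 0, 2, 0, 3, 0, 2, 0, 2, 0, 2, 0, 2, 0, 2, 0, 3, 0, 2, 0, 3, 0, 2, 0, 2, 0, 2, 0, 2, 0, 2, 0, 2, 0, 3, 0, 3, 0, 3, 1, 3, 1, 3, 1, 2, 1, 2, 1, 2, 1, 3, 1, 2, 1, 3, 1, 3, 1, 2], [3, 0, 2, 0, 2, 0, 3, 0, 2, 0, 3, 0, 3, 0, 3, 0, 2, 0, 2, 0, 2, 1, 2, 1, 2, 1, 3, 1, 3, 1, 3, 1, 3, 1, 3, 1, 3, 1, 2, 1, 3, 1, 2, 1, 3, 1, 3, 1, 3, 1, 3, 1, 3, 1, 2, 1, 3, 1, 3, 1], [0, 3, 0, 2, 0, 3, 0, 3, 0, 3, 0, 2, 0, 2, 0, 2, 0, 2, 0, 2, 0, 2, 0, 3, 0, 3, 0, 2, 0, 3, 0, 2, 0, 2, 0, 3, 0, 2, 0,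 3, 1, 3, 1, 3, 1, 2, 1, 2, 1, 3, 1, 3, 1, 3], [2, 0, 2, 0, 2, 0, 3, 0, 3, 0, 2, 0, 2, 0, 2, 1, 3, 1, 2, 1, 3, 1, 3, 1, 2, 1, 3, 1, 2, 1, 2, 1, 3, 1, 3, 1, 3, 1, 3, 1, 3, 1, 3, 1, 2, 1, 2, 1, 2, 1, 3, 1, 2, 1], [3, 0, 2, 0, 2, 0, 3, 0, 2, 0, 3, 0, 3, 0, 3, 0, 2, 0, 2, 0, 2, 0, 2, 0, 2, 0, 3, 0, 3, 0, 3, 0, 3, 0, 3, 0, 3, 0, 2, 1, 3, 1, 2, 1, 3, 1, 3, 1, 3, 1, 3, 1, 3, 1, 2, 1, 3, 1, 3, 1], [0, 2, 0, 2, 0, 3, 0, 2, 0, 2, 0, 2, 0, 2, 0, 2, 0, 3, 0, 2, 0, 3, 1, 2, 1, 2, 1, 2, 1, 2, 1, 2, 1, 2, 1, 3, 1, 3, 1, 3, 1, 3, 1, 3, 1, 2, 1, 2, 1, 2, 1, 3, 1, 2, 1, 3, 1, 3, 1, 2], [3, 0, 2, 0, 2, 0, 3, 0, 3, 0, 3, 0, 2, 0, 2, 0, 2, 0, 2, 0, 3, 0, 3, 0, 3, 0, 2, 0, 2, 0, 3, 0, 2, 0, 2, 0, 3, 0, 3, 1, 2, 1, 3, 1, 2, 1, 2, 1, 3, 1, 3, 1, 3, 1], [0, 2, 0, 2, 0, 2, 0, 3, 0, 3, 0, 2, 0, 3, 0, 2, 1, 2, 1, 3, 1, 3, 1, 2, 1, 3, 1, 3, 1, 2, 1, 2, 1, 2, 1, 3, 1, 3, 1, 3, 1, 3,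 1, 2, 1, 2, 1, 2, 1, 3, 1, 3, 1, 2], [0, 2, 0, 2, 0, 2, 0, 2, 0, 2, 0, 3, 0, 3, 0, 2, 0, 2, 0, 3, 0, 3, 0, 3, 0, 3, 0, 2, 0, 2, 0, 2, 0, 3, 0, 2, 0, 3, 0, 3, 1, 3, 1, 3, 1, 2, 1, 3, 1, 3, 1, 3], [2, 0, 2, 0, 2, 0, 3, 0, 2, 0, 2, 0, 2, 1, 2, 1, 3, 1, 2, 1, 3, 1, 3, 1, 3, 1, 2, 1, 2, 1, 2, 1, 2, 1, 3, 1, 3, 1, 2, 1, 2, 1, 3, 1, 3, 1, 3, 1, 3, 1, 3, 1]]
def LU : List Nat := [1, 2, 3, 4, 5, 6, 7, 8, 9, 10, 11, 12, 13, 14, 15, 16]

def W9 : List (List Nat) := [[5], [7]]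

def um8_0 : Nat := nat_lit 0x2a63
def um8_1 : Nat := nat_lit 0x800040
def um8_2 : Nat := nat_lit 0x8020501
def um8_3 : Nat := nat_lit 0x20101003
def um8_4 : Nat := nat_lit 0x44040
def um8_5 : Nat := nat_lit 0x10
def um8_6 : Nat := nat_lit 0x9
def um8_7 : Nat := nat_lit 0x820001
def um8_8 : Nat := nat_lit 0x2a23
def un8 : Net := Net.cons 16 um8_0 (Net.cons 8 um8_1 (Net.cons 4 um8_2 (Net.cons 2 um8_3 (Net.cons 1 um8_4 (Net.cons 2 um8_5 (Net.cons 4 um8_6 (Net.cons 8 um8_7 (Net.cons 16 um8_8 (Net.nil)))))))))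

def um9_0 : Nat := nat_lit 0x9d84
def um9_1 : Nat := nat_lit 0xb9000e
def um9_2 : Nat := nat_lit 0x3080402
def um9_3 : Nat := nat_lit 0x13121010
def um9_4 : Nat := nat_lit 0x44041440
def um9_5 : Nat := nat_lit 0x10001000
def um9_6 : Nat := nat_lit 0x2050000
def um9_7 : Nat := nat_lit 0x28000e
def um9_8 : Nat := nat_lit 0x9d90
def un9 : Net := Net.cons 16 um9_0 (Net.cons 8 um9_1 (Net.cons 4 um9_2 (Net.cons 2 um9_3 (Net.cons 1 um9_4 (Net.cons 2 um9_5 (Net.cons 4 um9_6 (Net.cons 8 um9_7 (Net.cons 16 um9_8 (Net.nil)))))))))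

def W17 : List (List Nat) := [[17], [19]]

def um10_0 : Nat := nat_lit 0x418
def um10_1 : Nat := nat_lit 0x100008
def um10_2 : Nat := nat_lit 0x1010008
def um10_3 : Nat := nat_lit 0x1220110
def um10_4 : Nat := nat_lit 0x141440
def um10_5 : Nat := nat_lit 0x101100
def um10_6 : Nat := nat_lit 0x1070100
def um10_7 : Nat := nat_lit 0x140050
def um10_8 : Nat := nat_lit 0x480
def un10 : Net := Net.cons 16 um10_0 (Net.cons 8 um10_1 (Net.cons 4 um10_2 (Net.cons 2 um10_3 (Net.cons 1 um10_4 (Net.cons 2 um10_5 (Net.cons 4 um10_6 (Net.cons 8 um10_7 (Net.cons 16 um10_8 (Net.nil)))))))))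

def um11_0 : Nat := nat_lit 0x172
def um11_1 : Nat := nat_lit 0x14
def um11_2 : Nat := nat_lit 0x30108
def um11_3 : Nat := nat_lit 0x10102
def um11_4 : Nat := nat_lit 0x404454
def um11_5 : Nat := nat_lit 0x102100
def um11_6 : Nat := nat_lit 0x10902
def um11_7 : Nat := nat_lit 0x1002c
def um11_8 : Nat := nat_lit 0x172
def un11 : Net := Net.cons 16 um11_0 (Net.cons 8 um11_1 (Net.cons 4 um11_2 (Net.cons 2 um11_3 (Net.cons 1 um11_4 (Net.cons 2 um11_5 (Net.cons 4 um11_6 (Net.cons 8 um11_7 (Net.cons 16 um11_8 (Net.nil)))))))))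

def um12_0 : Nat := nat_lit 0x45
def um12_1 : Nat := nat_lit 0x79
def um12_2 : Nat := nat_lit 0x10a06
def um12_3 : Nat := nat_lit 0x1012
def um12_4 : Nat := nat_lit 0x10000
def um12_5 : Nat := nat_lit 0x10402
def um12_6 : Nat := nat_lit 0x2c
def um12_7 : Nat := nat_lit 0x45
def un12 : Net := Net.cons 16 um12_0 (Net.cons 8 um12_1 (Net.cons 4 um12_2 (Net.cons 2 um12_3 (Net.cons 1 um12_4 (Net.cons 4 um12_5 (Net.cons 8 um12_6 (Net.cons 16 um12_7 (Net.nil))))))))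

def W27 : List (List Nat) := [[21], [23], [25]]

def W34 : List (List Nat) := [[21], [23]]

def um13_0 : Nat := nat_lit 0x4071
def um13_1 : Nat := nat_lit 0x400099
def um13_2 : Nat := nat_lit 0x40205
def um13_3 : Nat := nat_lit 0x100020
def um13_4 : Nat := nat_lit 0x440104
def um13_5 : Nat := nat_lit 0x20100
def um13_6 : Nat := nat_lit 0x80204
def um13_7 : Nat := nat_lit 0x400009
def um13_8 : Nat := nat_lit 0x4031
def un13 : Net := Net.cons 16 um13_0 (Net.cons 8 um13_1 (Net.cons 4 um13_2 (Net.cons 2 um13_3 (Net.cons 1 um13_4 (Net.cons 2 um13_5 (Net.cons 4 um13_6 (Net.cons 8 um13_7 (Net.cons 16 um13_8 (Net.nil)))))))))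

def um14_0 : Nat := nat_lit 0xa005
def um14_1 : Nat := nat_lit 0x200048
def um14_2 : Nat := nat_lit 0x80506
def um14_3 : Nat := nat_lit 0x20120011
def um14_4 : Nat := nat_lit 0x100004
def um14_5 : Nat := nat_lit 0x100001
def um14_6 : Nat := nat_lit 0x80004
def um14_7 : Nat := nat_lit 0x200048
def um14_8 : Nat := nat_lit 0xa005
def un14 : Net := Net.cons 16 um14_0 (Net.cons 8 um14_1 (Net.cons 4 um14_2 (Net.cons 2 um14_3 (Net.cons 1 um14_4 (Net.cons 2 um14_5 (Net.cons 4 um14_6 (Net.cons 8 um14_7 (Net.cons 16 um14_8 (Net.nil)))))))))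

def W43 : List (List Nat) := [[27], [29]]

def W54 : List (List Nat) := [[9], [11]]

def um15_0 : Nat := nat_lit 0x9ab0
def um15_1 : Nat := nat_lit 0x4b008c
def um15_2 : Nat := nat_lit 0xb0a0200
def um15_3 : Nat := nat_lit 0x21000000
def um15_4 : Nat := nat_lit 0x54044110
def um15_5 : Nat := nat_lit 0x1000110
def um15_6 : Nat := nat_lit 0x2000a00
def um15_7 : Nat := nat_lit 0x5300a8
def um15_8 : Nat := nat_lit 0x9aac
def un15 : Net := Net.cons 16 um15_0 (Net.cons 8 um15_1 (Net.cons 4 um15_2 (Net.cons 2 um15_3 (Net.cons 1 um15_4 (Net.cons 2 um15_5 (Net.cons 4 um15_6 (Net.cons 8 um15_7 (Net.cons 16 um15_8 (Net.nil)))))))))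

def um16_0 : Nat := nat_lit 0x147d
def um16_1 : Nat := nat_lit 0x40003
def um16_2 : Nat := nat_lit 0x20409
def um16_3 : Nat := nat_lit 0x302111
def um16_4 : Nat := nat_lit 0x40414
def um16_5 : Nat := nat_lit 0x1
def um16_6 : Nat := nat_lit 0x20405
def um16_7 : Nat := nat_lit 0x100060
def um16_8 : Nat := nat_lit 0x1479
def un16 : Net := Net.cons 16 um16_0 (Net.cons 8 um16_1 (Net.cons 4 um16_2 (Net.cons 2 um16_3 (Net.cons 1 um16_4 (Net.cons 2 um16_5 (Net.cons 4 um16_6 (Net.cons 8 um16_7 (Net.cons 16 um16_8 (Net.nil)))))))))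

def W62 : List (List Nat) := [[31], [33]]

def um17_0 : Nat := nat_lit 0x4333
def um17_1 : Nat := nat_lit 0x20022
def um17_2 : Nat := nat_lit 0x1010109
def um17_3 : Nat := nat_lit 0x10012200
def um17_4 : Nat := nat_lit 0x400110
def um17_5 : Nat := nat_lit 0x110
def um17_6 : Nat := nat_lit 0x1010100
def um17_7 : Nat := nat_lit 0x4000a2
def um17_8 : Nat := nat_lit 0x4333
def un17 : Net := Net.cons 16 um17_0 (Net.cons 8 um17_1 (Net.cons 4 um17_2 (Net.cons 2 um17_3 (Net.cons 1 um17_4 (Net.cons 2 um17_5 (Net.cons 4 um17_6 (Net.cons 8 um17_7 (Net.cons 16 um17_8 (Net.nil)))))))))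

def um18_0 : Nat := nat_lit 0x480
def um18_1 : Nat := nat_lit 0x140050
def um18_2 : Nat := nat_lit 0x1070100
def um18_3 : Nat := nat_lit 0x1201100
def um18_4 : Nat := nat_lit 0x441440
def um18_5 : Nat := nat_lit 0x120110
def um18_6 : Nat := nat_lit 0x1010008
def um18_7 : Nat := nat_lit 0x100008
def um18_8 : Nat := nat_lit 0x418
def un18 : Net := Net.cons 16 um18_0 (Net.cons 8 um18_1 (Net.cons 4 um18_2 (Net.cons 2 um18_3 (Net.cons 1 um18_4 (Net.cons 2 um18_5 (Net.cons 4 um18_6 (Net.cons 8 um18_7 (Net.cons 16 um18_8 (Net.nil)))))))))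

def um19_0 : Nat := nat_lit 0x9160
def um19_1 : Nat := nat_lit 0xa2
def um19_2 : Nat := nat_lit 0x1020008
def um19_3 : Nat := nat_lit 0x10111030
def um19_4 : Nat := nat_lit 0x40141440
def um19_5 : Nat := nat_lit 0x10001000
def um19_6 : Nat := nat_lit 0x10c0a
def um19_7 : Nat := nat_lit 0x100c0
def um19_8 : Nat := nat_lit 0x919a
def un19 : Net := Net.cons 16 um19_0 (Net.cons 8 um19_1 (Net.cons 4 um19_2 (Net.cons 2 um19_3 (Net.cons 1 um19_4 (Net.cons 2 um19_5 (Net.cons 4 um19_6 (Net.cons 8 um19_7 (Net.cons 16 um19_8 (Net.nil)))))))))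

def W72 : List (List Nat) := [[35], [37], [39]]

def um20_0 : Nat := nat_lit 0x8013
def um20_1 : Nat := nat_lit 0x200043
def um20_2 : Nat := nat_lit 0x103
def um20_3 : Nat := nat_lit 0x20000200
def um20_4 : Nat := nat_lit 0x441000
def um20_5 : Nat := nat_lit 0x100
def um20_6 : Nat := nat_lit 0x200003
def um20_7 : Nat := nat_lit 0x8013
def un20 : Net := Net.cons 16 um20_0 (Net.cons 8 um20_1 (Net.cons 4 um20_2 (Net.cons 2 um20_3 (Net.cons 1 um20_4 (Net.cons 4 um20_5 (Net.cons 8 um20_6 (Net.cons 16 um20_7 (Net.nil))))))))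

def um21_0 : Nat := nat_lit 0x90
def um21_1 : Nat := nat_lit 0x12
def um21_2 : Nat := nat_lit 0x40402
def um21_3 : Nat := nat_lit 0x311000
def um21_4 : Nat := nat_lit 0x11440
def um21_5 : Nat := nat_lit 0x11000
def um21_6 : Nat := nat_lit 0x40400
def um21_7 : Nat := nat_lit 0x2
def um21_8 : Nat := nat_lit 0x90
def un21 : Net := Net.cons 16 um21_0 (Net.cons 8 um21_1 (Net.cons 4 um21_2 (Net.cons 2 um21_3 (Net.cons 1 um21_4 (Net.cons 2 um21_5 (Net.cons 4 um21_6 (Net.cons 8 um21_7 (Net.cons 16 um21_8 (Net.nil)))))))))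

def um22_0 : Nat := nat_lit 0x2451
def um22_1 : Nat := nat_lit 0x220083
def um22_2 : Nat := nat_lit 0x10101
def um22_3 : Nat := nat_lit 0x1211000
def um22_4 : Nat := nat_lit 0x1000000
def um22_5 : Nat := nat_lit 0x1000000
def um22_6 : Nat := nat_lit 0x10100
def um22_7 : Nat := nat_lit 0x220001
def um22_8 : Nat := nat_lit 0x2411
def un22 : Net := Net.cons 16 um22_0 (Net.cons 8 um22_1 (Net.cons 4 um22_2 (Net.cons 2 um22_3 (Net.cons 1 um22_4 (Net.cons 2 um22_5 (Net.cons 4 um22_6 (Net.cons 8 um22_7 (Net.cons 16 um22_8 (Net.nil)))))))))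

def W82 : List (List Nat) := [[41], [43], [45]]

def W89 : List (List Nat) := [[41], [43]]

def W100 : List (List Nat) := [[13], [15]]

def um23_0 : Nat := nat_lit 0x1836
def um23_1 : Nat := nat_lit 0xc00e6
def um23_2 : Nat := nat_lit 0x10a0608
def um23_3 : Nat := nat_lit 0x1200131
def um23_4 : Nat := nat_lit 0x4104011
def um23_5 : Nat := nat_lit 0x102001
def um23_6 : Nat := nat_lit 0x1000400
def um23_7 : Nat := nat_lit 0xc0046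
def um23_8 : Nat := nat_lit 0x1814
def un23 : Net := Net.cons 16 um23_0 (Net.cons 8 um23_1 (Net.cons 4 um23_2 (Net.cons 2 um23_3 (Net.cons 1 um23_4 (Net.cons 2 um23_5 (Net.cons 4 um23_6 (Net.cons 8 um23_7 (Net.cons 16 um23_8 (Net.nil)))))))))

def um24_0 : Nat := nat_lit 0x24d9
def um24_1 : Nat := nat_lit 0x200d2
def um24_2 : Nat := nat_lit 0x20c0204
def um24_3 : Nat := nat_lit 0x1303020
def um24_4 : Nat := nat_lit 0x1105001
def um24_5 : Nat := nat_lit 0x1000000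
def um24_6 : Nat := nat_lit 0x40a09
def um24_7 : Nat := nat_lit 0x60010
def um24_8 : Nat := nat_lit 0x244f
def un24 : Net := Net.cons 16 um24_0 (Net.cons 8 um24_1 (Net.cons 4 um24_2 (Net.cons 2 um24_3 (Net.cons 1 um24_4 (Net.cons 2 um24_5 (Net.cons 4 um24_6 (Net.cons 8 um24_7 (Net.cons 16 um24_8 (Net.nil)))))))))

def W108 : List (List Nat) := [[47], [49]]

def um25_0 : Nat := nat_lit 0x8cd0
def um25_1 : Nat := nat_lit 0xe0062
def um25_2 : Nat := nat_lit 0x8000001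
def um25_3 : Nat := nat_lit 0x1110002
def um25_4 : Nat := nat_lit 0x1400041
def um25_5 : Nat := nat_lit 0x1100020
def um25_6 : Nat := nat_lit 0x3
def um25_7 : Nat := nat_lit 0x820012
def um25_8 : Nat := nat_lit 0x8c6c
def un25 : Net := Net.cons 16 um25_0 (Net.cons 8 um25_1 (Net.cons 4 um25_2 (Net.cons 2 um25_3 (Net.cons 1 um25_4 (Net.cons 2 um25_5 (Net.cons 4 um25_6 (Net.cons 8 um25_7 (Net.cons 16 um25_8 (Net.nil)))))))))

def um26_0 : Nat := nat_lit 0x114f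
def um26_1 : Nat := nat_lit 0x150003
def um26_2 : Nat := nat_lit 0x1040304
def um26_3 : Nat := nat_lit 0x1012002
def um26_4 : Nat := nat_lit 0x101400
def um26_5 : Nat := nat_lit 0x200000
def um26_6 : Nat := nat_lit 0x1040108
def um26_7 : Nat := nat_lit 0x150007
def um26_8 : Nat := nat_lit 0x1167
def un26 : Net := Net.cons 16 um26_0 (Net.cons 8 um26_1 (Net.cons 4 um26_2 (Net.cons 2 um26_3 (Net.cons 1 um26_4 (Net.cons 2 um26_5 (Net.cons 4 um26_6 (Net.cons 8 um26_7 (Net.cons 16 um26_8 (Net.nil)))))))))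

def W117 : List (List Nat) := [[51], [53]]

def um27_0 : Nat := nat_lit 0xa422
def um27_1 : Nat := nat_lit 0x210068
def um27_2 : Nat := nat_lit 0x5020108
def um27_3 : Nat := nat_lit 0x30021212
def um27_4 : Nat := nat_lit 0x40040100
def um27_5 : Nat := nat_lit 0x5060300
def um27_6 : Nat := nat_lit 0x210062
def um27_7 : Nat := nat_lit 0xa4a2
def un27 : Net := Net.cons 16 um27_0 (Net.cons 8 um27_1 (Net.cons 4 um27_2 (Net.cons 2 um27_3 (Net.cons 1 um27_4 (Net.cons 4 um27_5 (Net.cons 8 um27_6 (Net.cons 16 um27_7 (Net.nil))))))))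

def um28_0 : Nat := nat_lit 0x200
def um28_1 : Nat := nat_lit 0x240090
def um28_2 : Nat := nat_lit 0x2020800
def um28_3 : Nat := nat_lit 0x1211000
def um28_4 : Nat := nat_lit 0x1440410
def um28_5 : Nat := nat_lit 0x1010000
def um28_6 : Nat := nat_lit 0x20000
def um28_7 : Nat := nat_lit 0x2400b0
def um28_8 : Nat := nat_lit 0x218
def un28 : Net := Net.cons 16 um28_0 (Net.cons 8 um28_1 (Net.cons 4 um28_2 (Net.cons 2 um28_3 (Net.cons 1 um28_4 (Net.cons 2 um28_5 (Net.cons 4 um28_6 (Net.cons 8 um28_7 (Net.cons 16 um28_8 (Net.nil)))))))))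

def W126 : List (List Nat) := [[55], [57]]

def um29_0 : Nat := nat_lit 0x80e2
def um29_1 : Nat := nat_lit 0x90076
def um29_2 : Nat := nat_lit 0x8040807
def um29_3 : Nat := nat_lit 0x1202020
def um29_4 : Nat := nat_lit 0x4404041
def um29_5 : Nat := nat_lit 0x1001001
def um29_6 : Nat := nat_lit 0x40a01
def um29_7 : Nat := nat_lit 0x90024
def um29_8 : Nat := nat_lit 0x80f2
def un29 : Net := Net.cons 16 um29_0 (Net.cons 8 um29_1 (Net.cons 4 um29_2 (Net.cons 2 um29_3 (Net.cons 1 um29_4 (Net.cons 2 um29_5 (Net.cons 4 um29_6 (Net.cons 8 um29_7 (Net.cons 16 um29_8 (Net.nil)))))))))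

def um30_0 : Nat := nat_lit 0x9c
def um30_1 : Nat := nat_lit 0xc8
def um30_2 : Nat := nat_lit 0x3010a
def um30_3 : Nat := nat_lit 0x103211
def um30_4 : Nat := nat_lit 0x1
def um30_5 : Nat := nat_lit 0x1
def um30_6 : Nat := nat_lit 0x10102
def um30_7 : Nat := nat_lit 0xc8
def um30_8 : Nat := nat_lit 0x9c
def un30 : Net := Net.cons 16 um30_0 (Net.cons 8 um30_1 (Net.cons 4 um30_2 (Net.cons 2 um30_3 (Net.cons 1 um30_4 (Net.cons 2 um30_5 (Net.cons 4 um30_6 (Net.cons 8 um30_7 (Net.cons 16 um30_8 (Net.nil)))))))))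

def W135 : List (List Nat) := [[59], [61]]

def U : Tab := ⟨[n0, n1, un2, un3, un4, un5, un6, un7, un8, un9, un10, un11, un12, un13, un14, un15, un16, un17, un18, un19, un20, un21, un22, un23, un24, un25, un26, un27, un28, un29, un30], [⟨0, false, 0, 0, []⟩, ⟨0, false, 0, 0, []⟩, ⟨0, true, 0, 0, []⟩, ⟨1, false, 0, 0, []⟩, ⟨1, true, 0, 0, []⟩, ⟨2, false, 0, 0, []⟩, ⟨2, true, 0, 0, []⟩, ⟨3, false, 0, 0, []⟩, ⟨3, true, 0, 0, []⟩, ⟨4, false, 0, 0, []⟩, ⟨4, true, 0, 0, []⟩, ⟨5, false, 0, 0, []⟩, ⟨5, true, 0, 0, []⟩, ⟨6, false, 0, 0, []⟩, ⟨6, true, 0, 0, []⟩, ⟨7, false, 0, 0, []⟩, ⟨7, true, 0, 0, []⟩, ⟨8, false, 0, 0, []⟩, ⟨8, true, 0, 0, []⟩, ⟨9, false, 0, 0, []⟩, ⟨9, true, 0, 0, []⟩, ⟨10, false, 0, 0, []⟩, ⟨10, true, 0, 0, []⟩, ⟨11, false, 0, 0, []⟩, ⟨11, true, 0, 0, []⟩, ⟨12, false, 0, 0, []⟩, ⟨12, true, 0, 0, []⟩, ⟨13, false, 0, 0, []⟩, ⟨13, true, 0, 0,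 []⟩, ⟨14, false, 0, 0, []⟩, ⟨14, true, 0, 0, []⟩, ⟨15, false, 0, 0, []⟩, ⟨15, true, 0, 0, []⟩, ⟨16, false, 0, 0, []⟩, ⟨16, true, 0, 0, []⟩, ⟨17, false, 0, 0, []⟩, ⟨17, true, 0, 0, []⟩, ⟨18, false, 0, 0, []⟩, ⟨18, true, 0, 0, []⟩, ⟨19, false, 0, 0, []⟩, ⟨19, true, 0, 0, []⟩, ⟨20, false, 0, 0, []⟩, ⟨20, true, 0, 0, []⟩, ⟨21, false, 0, 0, []⟩, ⟨21, true, 0, 0, []⟩, ⟨22, false, 0, 0, []⟩, ⟨22, true, 0, 0, []⟩, ⟨23, false, 0, 0, []⟩, ⟨23, true, 0, 0, []⟩, ⟨24, false, 0, 0, []⟩, ⟨24, true, 0, 0, []⟩, ⟨25, false, 0, 0, []⟩, ⟨25, true, 0, 0, []⟩, ⟨26, false, 0, 0, []⟩, ⟨26, true, 0, 0, []⟩, ⟨27, false, 0, 0, []⟩, ⟨27, true, 0, 0, []⟩, ⟨28, false, 0, 0, []⟩, ⟨28, true, 0, 0, []⟩, ⟨29, false, 0, 0, []⟩, ⟨29, true, 0, 0, []⟩, ⟨30, false, 0, 0, []⟩, ⟨30, true, 0, 0, []⟩]⟩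

end Cfsg.Agent.Spor.J4P.VB
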